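import Groth.Agent.Lib.CdP3.Double
import Groth.Agent.Lib.QcOpenIdeal19

/-!
# Doubling a scheme outside a closed subset cut out by a finite type ideal
-/

universe u

set_option autoImplicit false
set_option linter.style.haveILetI false
set_option backward.isDefEq.respectTransparency.types false

open CategoryTheory CategoryTheory.Limits AlgebraicGeometry TopologicalSpace
open Groth.Agent.Pinch4 Groth.Agent.FerrandPush

namespace Groth.Agent.FibVan3

/-- The corner of a square of surjections is of finite type if the two pieces are and one kernel is finitely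
generated. -/
theorem finiteType_corner {k A A' B B' : Type u} [CommRing k] [CommRing A] [CommRing A'] [CommRing B]
    [CommRing B'] [Algebra k B'] {p : A' →+* A} {q : B →+* A} {i : B' →+* B} {j : B' →+* A'}
    (H : IsFerrand p q i j) (hA' : (j.comp (algebraMap k B')).FiniteType)
    (hB : (i.comp (algebraMap k B')).FiniteType) (hq : Function.Surjective q) (hker : (RingHom.ker q).FG) :
    Algebra.FiniteType k B' := by
  classical
  letI algA : Algebra k A' := (j.comp (algebraMap k B')).toAlgebra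
  letI algB : Algebra k B := (i.comp (algebraMap k B')).toAlgebra
  have hji : Function.Surjective j := fun a' => by
    obtain ⟨b, hb⟩ := hq (p a')
    obtain ⟨x, -, hx⟩ := H.exist b a' hb
    exact ⟨x, hx⟩
  let jA : B' →ₐ[k] A' := { j with commutes' := fun _ => rfl }
  let iA : B' →ₐ[k] B := { i with commutes' := fun _ => rfl }
  obtain ⟨SA, hSA⟩ : (⊤ : Subalgebra k A').FG := (show Algebra.FiniteType k A' from hA').out
  obtain ⟨SB, hSB⟩ : (⊤ : Subalgebra k B).FG := (show Algebra.FiniteType k B from hB).out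
  obtain ⟨G, hG⟩ := hker
  choose la hla using fun a : SA => hji a.1
  choose lb hlb using fun b : SB => H.surj_i b.1
  have hg : ∀ g : G, ∃ x, i x = g.1 ∧ j x = 0 := fun g => H.exist g.1 0 (by
    rw [map_zero]
    exact (hG ▸ Ideal.subset_span g.2 : g.1 ∈ RingHom.ker q))
  choose lg hlg hlg' using hg
  let T : Finset B' := Finset.univ.image la ∪ Finset.univ.image lb ∪ Finset.univ.image lg
  refine ⟨T, ?_⟩
  let S := Algebra.adjoin k (T : Set B')
  change S = ⊤
  have hmemA : ∀ a, la a ∈ S := fun a => Algebra.subset_adjoin (by simp [T])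
  have hmemB : ∀ b, lb b ∈ S := fun b => Algebra.subset_adjoin (by simp [T])
  have hmemG : ∀ g, lg g ∈ S := fun g => Algebra.subset_adjoin (by simp [T])
  have hiS : ∀ b : B, ∃ s ∈ S, iA s = b := fun b => by
    have h : S.map iA = ⊤ := top_unique (hSB ▸ Algebra.adjoin_le fun x hx => ⟨lb ⟨x, hx⟩, hmemB _, hlb ⟨x, hx⟩⟩)
    exact (h ▸ Algebra.mem_top : b ∈ S.map iA)
  have hjS : ∀ a : A', ∃ s ∈ S, jA s = a := fun a => by
    have h : S.map jA = ⊤ := top_unique (hSA ▸ Algebra.adjoin_le fun x hx => ⟨la ⟨x, hx⟩, hmemA _, hla ⟨x, hx⟩⟩)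
    exact (h ▸ Algebra.mem_top : a ∈ S.map jA)
  refine eq_top_iff.2 fun x _ => ?_
  obtain ⟨s, hs, hjs⟩ := hjS (j x)
  have hjs' : j s = j x := hjs
  have hz : i (x - s) ∈ RingHom.ker q := by
    rw [RingHom.mem_ker, H.comm, map_sub, hjs', sub_self, map_zero]
  rw [← hG] at hz
  suffices key : ∀ b ∈ Submodule.span B (G : Set B), ∃ t ∈ S, i t = b ∧ j t = 0 by
    obtain ⟨t, ht, hit, hjt⟩ := key _ hz
    have : x - s = t := H.ext _ _ hit.symm (by rw [map_sub, hjs', sub_self, hjt])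
    rw [← sub_add_cancel x s, this]
    exact S.add_mem ht hs
  intro b hb
  induction hb using Submodule.span_induction with
  | mem g hg => exact ⟨_, hmemG ⟨g, hg⟩, hlg _, hlg' _⟩
  | zero => exact ⟨0, S.zero_mem, map_zero _, map_zero _⟩
  | add b b' _ _ hb hb' =>
    obtain ⟨t, ht, h1, h2⟩ := hb
    obtain ⟨t', ht', h1', h2'⟩ := hb'
    exact ⟨t + t', S.add_mem ht ht', by rw [map_add, h1, h1'], by rw [map_add, h2, h2', add_zero]⟩
  | smul c b _ hb =>
    obtain ⟨t, ht, h1, h2⟩ := hb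
    obtain ⟨c', hc', hic⟩ := hiS c
    exact ⟨c' * t, S.mul_mem hc' ht, by rw [map_mul, h1, show i c' = c from hic, smul_eq_mul],
      by rw [map_mul, h2, mul_zero]⟩

variable {X Z P S : Scheme.{u}}

/-- Two copies of a scheme of finite type glued along a closed subscheme with ideal of finite type are of
finite type. -/
theorem locallyOfFiniteType_fold (I : X.IdealSheafData) (hI : BlowUp.IsFiniteTypeIdeal I) {a b : X ⟶ P}
    (H : IsPinch I.subschemeι I.subschemeι a b) (r : P ⟶ S) [LocallyOfFiniteType (a ≫ r)]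
    [LocallyOfFiniteType (b ≫ r)] : LocallyOfFiniteType r := by
  refine (HasRingHomProperty.iff_exists_appLE (P := @LocallyOfFiniteType)
    (RingHom.finiteType_stableUnderComposition.stableUnderCompositionWithLocalizationAway
      RingHom.finiteType_holdsForLocalizationAway).1).2 ?_
  intro x
  obtain ⟨V, hV, hxV, -⟩ := exists_isAffineOpen_mem_and_subset (X := S) (x := r x) (U := ⊤) trivial
  obtain ⟨O, hxO, hOV, c⟩ := H.exists_chart_le x (r ⁻¹ᵁ V) hxV
  refine ⟨⟨V, hV⟩, ⟨O, c.affO⟩, hxO, hOV, ?_⟩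
  letI := (r.appLE V O hOV).hom.toAlgebra
  have h1 : ((a ≫ r).appLE V (a ⁻¹ᵁ O) (a.preimage_mono hOV)).hom.FiniteType := (a ≫ r).finiteType_appLE hV c.affX _
  have h2 : ((b ≫ r).appLE V (b ⁻¹ᵁ O) (b.preimage_mono hOV)).hom.FiniteType := (b ≫ r).finiteType_appLE hV c.affY _
  rw [← Scheme.Hom.appLE_comp_appLE a r V O (a ⁻¹ᵁ O) hOV le_rfl, ← Scheme.Hom.app_eq_appLE] at h1
  rw [← Scheme.Hom.appLE_comp_appLE b r V O (b ⁻¹ᵁ O) hOV le_rfl, ← Scheme.Hom.app_eq_appLE] at h2
  have heq : I.subschemeι ⁻¹ᵁ a ⁻¹ᵁ O = I.subschemeι ⁻¹ᵁ b ⁻¹ᵁ O := by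
    rw [← Scheme.Hom.comp_preimage, H.w, Scheme.Hom.comp_preimage]
  have h3 : ∀ (W : I.subscheme.Opens) (e : W ≤ I.subschemeι ⁻¹ᵁ b ⁻¹ᵁ O), W = I.subschemeι ⁻¹ᵁ b ⁻¹ᵁ O →
      Function.Surjective (I.subschemeι.appLE (b ⁻¹ᵁ O) W e).hom ∧
        (RingHom.ker (I.subschemeι.appLE (b ⁻¹ᵁ O) W e).hom).FG := by
    rintro W e rfl
    rw [← Scheme.Hom.app_eq_appLE]
    refine ⟨I.subschemeι.app_surjective _ c.affY, ?_⟩
    rw [I.ker_subschemeι_app ⟨_, c.affY⟩]
    exact hI ⟨_, c.affY⟩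
  obtain ⟨h3, h3'⟩ := h3 _ _ heq
  exact finiteType_corner c.ferrand h1 h2 h3 h3'

/-- A scheme doubled along the complement of a quasi-compact open subscheme is finite over it. -/
theorem exists_double [CompactSpace X] [QuasiSeparatedSpace X] {U : Scheme.{u}} (j : U ⟶ X) [IsOpenImmersion j]
    [QuasiCompact j] :
    ∃ (P : Scheme.{u}) (π : P ⟶ X) (a b : X ⟶ P) (_ : IsFinite π) (_ : IsClosedImmersion a)
      (_ : IsClosedImmersion b) (_ : IsOpenImmersion (j ≫ a)),
      a ≫ π = 𝟙 X ∧ b ≫ π = 𝟙 X ∧ Set.range (j ≫ a) = (Set.range b)ᶜ ∧ IsPullback j (𝟙 U) a (j ≫ a) := by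
  haveI : CompactSpace U := QuasiCompact.compactSpace_of_compactSpace j
  obtain ⟨I, hIft, hIsupp⟩ := QcOpenIdeal19.exists_support_eq_compl X j.opensRange
    (by rw [Scheme.Hom.coe_opensRange]; exact isCompact_range j.continuous)
  let i := I.subschemeι
  have hi : Set.range i = (Set.range j)ᶜ := by
    rw [Scheme.IdealSheafData.range_subschemeι, hIsupp]
    rfl
  obtain ⟨P, a, b, H⟩ := exists_isPinch (cond_of_closed (i := i) (j := i))
  obtain ⟨π, ha, hb⟩ := H.exists_desc (𝟙 X) (𝟙 X) rfl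
  haveI := H.isClosedImmersion_b
  haveI := H.flip.isClosedImmersion_b
  haveI : UniversallyClosed (a ≫ π) := by rw [ha]; infer_instance
  haveI : UniversallyClosed (b ≫ π) := by rw [hb]; infer_instance
  haveI : IsIntegralHom π := IsIntegralHom.iff_universallyClosed_and_isAffineHom.2
    ⟨H.universallyClosed π, CdP3.isAffineHom_fold H π ha hb⟩
  haveI : LocallyOfFiniteType (a ≫ π) := by rw [ha]; infer_instance
  haveI : LocallyOfFiniteType (b ≫ π) := by rw [hb]; infer_instance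
  haveI : IsFinite π := (IsFinite.iff_isIntegralHom_and_locallyOfFiniteType π).2
    ⟨inferInstance, locallyOfFiniteType_fold I hIft H π⟩
  have r1 : i ⁻¹ᵁ j.opensRange = (Scheme.emptyTo I.subscheme).opensRange := by
    ext y
    refine ⟨fun hy => absurd hy (hi.subset ⟨y, rfl⟩), fun ⟨z, _⟩ => isEmptyElim z⟩
  have r2 : i ⁻¹ᵁ (Scheme.emptyTo X).opensRange = (Scheme.emptyTo I.subscheme).opensRange := by
    ext y
    exact ⟨fun ⟨z, _⟩ => isEmptyElim z, fun ⟨z, _⟩ => isEmptyElim z⟩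
  obtain ⟨hk, h1, h2⟩ := H.isOpenImmersion_desc (CdP3.isPinch_empty U) j (Scheme.emptyTo X)
    (Scheme.emptyTo I.subscheme) (Scheme.empty_ext _ _) (Scheme.empty_ext _ _) r1 r2 (j ≫ a)
    (Category.id_comp _) (Scheme.empty_ext _ _)
  refine ⟨P, π, a, b, inferInstance, inferInstance, inferInstance, hk, ha, hb, ?_,
    (IsOpenImmersion.isPullback (𝟙 U) j (j ≫ a) a (Category.id_comp _).symm h1).flip⟩
  ext x
  constructor
  · rintro ⟨u, rfl⟩ ⟨y, hy⟩
    have hy' : y ∈ b ⁻¹ᵁ (j ≫ a).opensRange := ⟨u, hy.symm⟩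
    rw [h2] at hy'
    obtain ⟨z, _⟩ := hy'
    exact isEmptyElim z
  · intro hx
    rcases H.covers x with ⟨z, rfl⟩ | ⟨y, rfl⟩
    · by_cases hz : z ∈ Set.range j
      · obtain ⟨u, rfl⟩ := hz; exact ⟨u, rfl⟩
      · obtain ⟨w, rfl⟩ := hi.symm.subset hz
        exact absurd ⟨i w, by rw [← Scheme.Hom.comp_apply, ← H.w, Scheme.Hom.comp_apply]⟩ hx
    · exact absurd ⟨y, rfl⟩ hx

end Groth.Agent.FibVan3
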