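import Groth.Agent.Lib.FibDim4.Basic
import Groth.Agent.Lib.VanFib13.Vanish

/-!
# Fibre dimensions after base change
-/

universe u

set_option autoImplicit false
set_option backward.isDefEq.respectTransparency.types false

open CategoryTheory CategoryTheory.Limits AlgebraicGeometry

namespace Groth.Agent.FibVan3

/-- The fibres of a base change have the dimensions of the original fibres. -/
theorem dim_fiber_baseChange {X S T : Scheme.{u}} (f : X ⟶ S) [LocallyOfFiniteType f] (g : T ⟶ S) (t : T) :
    topologicalKrullDim ↥((pullback.snd f g).fiber t) = topologicalKrullDim ↥(f.fiber (g t)) := by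
  have hφ : Spec.map (g.residueFieldMap t) ≫ S.fromSpecResidueField (g t) = T.fromSpecResidueField t ≫ g :=
    Scheme.Hom.SpecMap_residueFieldMap_fromSpecResidueField g t
  let h := pullback.snd f g
  have sqA := (IsPullback.of_hasPullback h (T.fromSpecResidueField t)).flip.paste_vert
    (IsPullback.of_hasPullback f g).flip
  let l : h.fiber t ⟶ f.fiber (g t) :=
    pullback.lift (pullback.fst h (T.fromSpecResidueField t) ≫ pullback.fst f g)
      (pullback.snd h (T.fromSpecResidueField t) ≫ Spec.map (g.residueFieldMap t)) (by
      rw [Category.assoc, Category.assoc, hφ]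
      exact (Category.assoc _ _ _).symm.trans sqA.w.symm)
  have sq : IsPullback l (h.fiberToSpecResidueField t) (f.fiberToSpecResidueField (g t))
      (Spec.map (g.residueFieldMap t)) := by
    refine IsPullback.of_right (h₁₂ := pullback.fst f (S.fromSpecResidueField (g t))) (v₁₃ := f)
      (h₂₂ := S.fromSpecResidueField (g t)) ?_ (pullback.lift_snd _ _ _) (IsPullback.of_hasPullback _ _)
    have e : l ≫ pullback.fst f (S.fromSpecResidueField (g t)) =
        pullback.fst h (T.fromSpecResidueField t) ≫ pullback.fst f g := pullback.lift_fst _ _ _
    exact e ▸ hφ.symm ▸ sqA.flip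
  haveI : LocallyOfFiniteType (f.fiberToSpecResidueField (g t)) :=
    MorphismProperty.pullback_snd f (S.fromSpecResidueField (g t)) inferInstance
  exact FibDim4.topologicalKrullDim_eq_of_isPullback _ (Field.toIsField _) (Field.toIsField _) _ l _ sq

end Groth.Agent.FibVan3
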