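import Groth.Agent.Lib.FibVan3.Core
import Groth.Agent.Lib.FibVan3.FibreDim
import Groth.Agent.Lib.CdP3.Main
import Groth.Agent.Lib.Constr24.SuppColim
import Groth.Agent.Lib.Hens.Henselization
import Groth.Agent.Lib.LocAcyc24.SHPoint
import Groth.Prelude.Def_Hens2

/-!
# `Rᵍf_* F = 0` above the fibre dimension for `p`-power torsion sheaves in characteristic `p`
-/

universe u

set_option autoImplicit false
set_option linter.style.haveILetI false
set_option backward.isDefEq.respectTransparency.types false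

open CategoryTheory CategoryTheory.Limits AlgebraicGeometry Opposite

namespace Groth.Agent.FibVan3

theorem pTors_of_sections {X : Scheme.{u}} {p : ℕ} {F : EtCoh.Ab X}
    (hF : ∀ (U : X.Etale) (s : EtCoh.sect F U), ∃ k : ℕ, p ^ k • s = 0) : Dix.IsPrimaryTorsion p F :=
  fun U s x => ⟨U, 𝟙 U, ⟨x, rfl⟩, by
    obtain ⟨k, hk⟩ := hF U s
    exact ⟨k, by rw [op_id, F.obj.map_id]; exact hk⟩⟩

/-- Sheaves with `p`-power torsion stalks are `p`-primary torsion. -/
theorem isPrimaryTorsion_of_pTors {X : Scheme.{u}} {p : ℕ} {F : EtCoh.Ab X} (h : CdP3.PTors p F) :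
    Dix.IsPrimaryTorsion p F := fun U s x => by
  obtain ⟨φ, hφ⟩ := EtStalk.exists_fib U x
  obtain ⟨a, ha⟩ := h _ (EtStalk.geomPt X (U.hom x)) (EtStalk.germ (EtStalk.geomPt X (U.hom x)) F φ s)
  rw [← map_nsmul, ← map_zero (EtStalk.germ (EtStalk.geomPt X (U.hom x)) F φ).hom] at ha
  obtain ⟨V, g, y, hy, he⟩ := (EtStalk.germ_eq_iff _ F φ _ _).1 ha
  refine ⟨V, g, ⟨y.left (default : Spec (CommRingCat.of (SeparableClosure (X.residueField (U.hom x))))),
    ?_⟩, a, ?_⟩
  · exact Eq.trans (congrArg (fun t : EtStalk.fib (EtStalk.geomPt X (U.hom x)) U => t.left (default :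
      Spec (CommRingCat.of (SeparableClosure (X.residueField (U.hom x)))))) hy) hφ
  · rw [map_nsmul, map_zero] at he
    exact he

/-- The shape of the stalk formula for higher direct images at a strict henselisation. -/
def StalkFormula {X S : Scheme.{u}} (f : X ⟶ S) (F : EtCoh.Ab X) (q : ℕ) : Prop :=
  ∀ (s : S) (R : Type u) [CommRing R] [IsLocalRing R] [Algebra (S.presheaf.stalk s) R]
    [IsLocalHom (algebraMap (S.presheaf.stalk s) R)] [Hensel.IsStrictHenselization (S.presheaf.stalk s) R]
    [IsSepClosed (IsLocalRing.ResidueField R)],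
    Nonempty ((EtCoh.stalk (Hens2.geomPt S s R)).obj ((EtCoh.Rpush f q).obj F) ≅
      AddCommGrpCat.of (EtCoh.H (pullback f (Hens2.specOf S s R))
        ((EtCoh.pull (pullback.fst f (Hens2.specOf S s R))).obj F) q))

/-- Higher direct images of `p`-power torsion sheaves vanish above the fibre dimension in characteristic `p`. -/
theorem isZero_Rpush {X S : Scheme.{u}} (f : X ⟶ S) [IsProper f] (p : ℕ) (hp : p.Prime)
    (hS : (p : Γ(S, ⊤)) = 0) (n : ℕ) (hdim : ∀ s : S, topologicalKrullDim (f.fiber s) ≤ n) (F : EtCoh.Ab X)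
    (hF : ∀ (U : X.Etale) (s : EtCoh.sect F U), ∃ k : ℕ, p ^ k • s = 0) (q : ℕ) (hq : n < q)
    (hst : StalkFormula f F q) : IsZero ((EtCoh.Rpush f q).obj F) := by
  haveI : Fact p.Prime := ⟨hp⟩
  refine (EtStalk.isZero_iff_stalk _).2 fun Ω _ _ ξ => ?_
  let s := ξ default
  let R := Hens.Hsh (S.presheaf.stalk s)
  haveI : HenselianLocalRing R := Hensel.IsStrictHenselization.henselian (R := S.presheaf.stalk s)
  haveI := Hensel.IsStrictHenselization.isSepClosure (R := S.presheaf.stalk s) (S := R)
  haveI : IsSepClosed (IsLocalRing.ResidueField R) :=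
    IsSepClosure.sep_closed (IsLocalRing.ResidueField (S.presheaf.stalk s))
  obtain ⟨e⟩ := hst s R
  have hpR : (p : R) = 0 := by
    let φ : Γ(S, ⊤) →+* R :=
      (algebraMap (S.presheaf.stalk s) R).comp (S.presheaf.germ ⊤ s trivial).hom
    rw [← map_natCast φ, hS, map_zero]
  haveI : Subsingleton (EtCoh.H (pullback f (Hens2.specOf S s R))
      ((EtCoh.pull (pullback.fst f (Hens2.specOf S s R))).obj F) q) :=
    subsingleton_H_of_fibreDim hpR (pullback.snd f (Hens2.specOf S s R)) n
      (fun y => (VanFib13.dim_fiber _ y).symm.trans_le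
        ((dim_fiber_baseChange f (Hens2.specOf S s R) y).trans_le (hdim _))) _
      (isPrimaryTorsion_of_pTors ((CdP3.PTors.of_primary (pTors_of_sections hF)).pull _)) q hq
  haveI : Subsingleton ((EtCoh.stalk (Hens2.geomPt S s R)).obj ((EtCoh.Rpush f q).obj F)) :=
    AddCommGrpCat.subsingleton_of_isZero ((AddCommGrpCat.isZero_of_subsingleton _).of_iso e)
  have hd : ξ default = (Hens2.geomPt S s R) default := by
    show s = (Hens2.specOf S s R) ((Spec.map (CommRingCat.ofHom (IsLocalRing.residue R))) default)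
    rw [show (Spec.map (CommRingCat.ofHom (IsLocalRing.residue R))) default = IsLocalRing.closedPoint R from ?_]
    · exact LocAcyc24.specOf_closedPoint.symm
    · exact (congrArg (Spec.map (CommRingCat.ofHom (IsLocalRing.residue R)))
        (Subsingleton.elim (default : Spec (CommRingCat.of (IsLocalRing.ResidueField R)))
          (IsLocalRing.closedPoint (IsLocalRing.ResidueField R)))).trans
        (IsLocalRing.comap_closedPoint (IsLocalRing.residue R))
  have hsur := Constr24.surjective_stalk_congr (0 : (EtCoh.Rpush f q).obj F ⟶ (EtCoh.Rpush f q).obj F) ξ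
    (Hens2.geomPt S s R) hd fun a => ⟨a, Subsingleton.elim _ _⟩
  have : Subsingleton ((EtCoh.stalk ξ).obj ((EtCoh.Rpush f q).obj F)) := subsingleton_of_forall_eq 0 fun a => by
    obtain ⟨r, rfl⟩ := hsur a
    rw [Functor.map_zero]
    rfl
  exact AddCommGrpCat.isZero_of_subsingleton _

end Groth.Agent.FibVan3
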