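import Groth.Agent.Lib.FibVan3.Frob
import Groth.Agent.Lib.VanFib13.Top
import Groth.Agent.Lib.VanFib13.Vanish
import Groth.Agent.Lib.CdP3.Basic
import Groth.Agent.Lib.GaCoh3.ASGlobal
import Groth.Agent.Lib.AlgSpDecent.DimMor
import Groth.Agent.S0385

/-!
# Proper schemes with small fibres over a strictly henselian ring
-/

universe u

set_option autoImplicit false
set_option linter.style.haveILetI false
set_option backward.isDefEq.respectTransparency.types false

open CategoryTheory CategoryTheory.Limits AlgebraicGeometry Opposite Abelian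
open Groth.Agent.GaCoh3

namespace Groth.Agent.FibVan3

/-- Schemes proper over `R` whose fibres have dimension at most `n`. -/
def FibD (R : Type u) [CommRing R] (n : ℕ) (Y : Scheme.{u}) : Prop :=
  ∃ g : Y ⟶ Spec (CommRingCat.of R), IsProper g ∧
    ∀ y, topologicalKrullDim ↥(g ⁻¹' {y} : Set Y) ≤ (n : WithBot ℕ∞)

variable {R : Type u} [CommRing R] {n : ℕ} {X : Scheme.{u}}

theorem FibD.compact (h : FibD R n X) : CompactSpace X := by
  obtain ⟨g, _, -⟩ := h
  exact QuasiCompact.compactSpace_of_compactSpace g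

theorem FibD.qs (h : FibD R n X) : QuasiSeparatedSpace X := by
  obtain ⟨g, _, -⟩ := h
  exact quasiSeparatedSpace_of_quasiSeparated g

/-- Finite schemes over such schemes are again such. -/
theorem FibD.of_finite {P : Scheme.{u}} (π : P ⟶ X) [IsFinite π] (h : FibD R n X) : FibD R n P := by
  obtain ⟨g, _, hd⟩ := h
  refine ⟨π ≫ g, inferInstance, fun y => le_trans ?_ (hd y)⟩
  let h' : ↥((π ≫ g) ⁻¹' {y} : Set P) → ↥(g ⁻¹' {y} : Set X) := fun x => ⟨π x.1, by
    show g (π x.1) = y
    rw [← Scheme.Hom.comp_apply]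
    exact x.2⟩
  haveI : QuasiSober ↥((π ≫ g) ⁻¹' {y} : Set P) :=
    ((π ≫ g).fiberHomeo y).symm.isClosedEmbedding.quasiSober
  haveI : QuasiSober ↥(g ⁻¹' {y} : Set X) := (g.fiberHomeo y).symm.isClosedEmbedding.quasiSober
  exact H12.topologicalKrullDim_le_of_eq_of_specializes h'
    ((π.continuous.comp continuous_subtype_val).subtype_mk _) fun a b hs he => Subtype.ext
      (AlgSpDecent.eq_of_specializes_of_lqf π (hs.map continuous_subtype_val) (congrArg Subtype.val he))

theorem FibD.natCast_eq_zero (h : FibD R n X) (p : ℕ) (hp : (p : R) = 0) : (p : Γ(X, ⊤)) = 0 := by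
  obtain ⟨g, -, -⟩ := h
  exact (map_natCast (Coh.toGlobal g) p).symm.trans ((congrArg _ hp).trans (map_zero _))

theorem FibD.good (h : FibD R n X) {p : ℕ} (hp : (p : R) = 0) : CdP3.Good p n X where
  compact := h.compact
  qs := h.qs
  h0 := h.natCast_eq_zero p hp
  hqc M hM q hq := by
    obtain ⟨g, _, hd⟩ := h
    exact (CohFound.subsingleton_HH_iff M q).2 (VanFib13.subsingleton_of_fibreDim g n hd hM hq)

/-- Finite morphisms over quasi-compact opens extend to finite morphisms. -/
theorem exists_finite_extension [CompactSpace X] [QuasiSeparatedSpace X] {U W : Scheme.{u}} (j : U ⟶ X)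
    [IsOpenImmersion j] [QuasiCompact j] (c : W ⟶ U) [IsFinite c] :
    ∃ (X' : Scheme.{u}) (π : X' ⟶ X) (_ : IsFinite π) (j' : W ⟶ X') (_ : IsOpenImmersion j')
      (_ : QuasiCompact j'), IsPullback j' c π j := by
  obtain ⟨T, j₀, π₀, hj₀, hjc₀, hπ₀, hw₀⟩ := Groth.Agent.S0385.result (c ≫ j)
  haveI := hj₀
  haveI := hjc₀
  haveI := hπ₀
  let X' := j₀.image
  let j' := j₀.toImage
  let π : X' ⟶ X := j₀.imageι ≫ π₀
  have hw : j' ≫ π = c ≫ j := by
    show j₀.toImage ≫ j₀.imageι ≫ π₀ = c ≫ j
    rw [← Category.assoc, Scheme.Hom.toImage_imageι, hw₀]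
  haveI : QuasiCompact j' := by
    haveI : QuasiCompact (j' ≫ π) := by rw [hw]; infer_instance
    exact QuasiCompact.of_comp j' π
  let U' : X'.Opens := π ⁻¹ᵁ j.opensRange
  have hsub : Set.range j' ⊆ U' := by
    rintro _ ⟨w, rfl⟩
    exact ⟨c w, by rw [← Scheme.Hom.comp_apply, ← Scheme.Hom.comp_apply, hw]⟩
  have heq : Set.range j' = U' := by
    let l : W ⟶ U'.toScheme := IsOpenImmersion.lift U'.ι j' (by rwa [Scheme.Opens.range_ι])
    have hl : l ≫ U'.ι = j' := IsOpenImmersion.lift_fac _ _ _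
    let m : U'.toScheme ⟶ U := IsOpenImmersion.lift j (U'.ι ≫ π) (by
      rintro _ ⟨y, rfl⟩
      exact y.2)
    have hlm : l ≫ m = c := by
      rw [← cancel_mono j, Category.assoc, IsOpenImmersion.lift_fac, reassoc_of% hl, hw]
    haveI : IsSeparated m := by
      haveI : IsSeparated (m ≫ j) := by rw [IsOpenImmersion.lift_fac]; infer_instance
      exact IsSeparated.of_comp m j
    haveI : IsFinite l := by
      haveI : IsFinite (l ≫ m) := by rw [hlm]; infer_instance
      exact MorphismProperty.of_postcomp (W := @IsFinite) (W' := @IsSeparated) l m inferInstance ‹_›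
    have hcl : IsClosed (Set.range l) := l.isClosedMap.isClosed_range
    refine subset_antisymm hsub fun y hy => ?_
    obtain ⟨z, hz⟩ : (⟨y, hy⟩ : U') ∈ Set.range l := by
      rw [← hcl.closure_eq]
      refine closure_subtype.2 ?_
      have he : (Subtype.val '' (Set.range (l : W → U'.toScheme) : Set U') : Set X') = Set.range j' :=
        (Set.range_comp _ _).symm.trans (congrArg Set.range (funext fun w => congr(($hl) w)))
      exact Eq.subst (motive := fun S => y ∈ closure S) he.symm
        (by rw [j₀.toImage.denseRange.closure_range]; exact Set.mem_univ y)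
    exact ⟨z, (congr(($hl) z)).symm.trans (congrArg Subtype.val hz)⟩
  exact ⟨X', π, inferInstance, j', inferInstance, inferInstance,
    (IsOpenImmersion.isPullback c j' j π hw (TopologicalSpace.Opens.ext heq.symm)).flip⟩

variable [HenselianLocalRing R] [IsSepClosed (IsLocalRing.ResidueField R)]

/-- The Artin–Schreier map is onto on the cohomology in the degree of the fibre dimension. -/
theorem FibD.asAb_surjective {p : ℕ} [Fact p.Prime] (h : FibD R n X) (hp : (p : R) = 0) :
    Function.Surjective (Sheaf.H.map (asAb p (h.natCast_eq_zero p hp)) n :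
      Coh.HH X (Coh.structureModule X) n → Coh.HH X (Coh.structureModule X) n) := by
  have h0 := h.natCast_eq_zero p hp
  obtain ⟨g, _, hd⟩ := h
  letI : X.Over (Spec (CommRingCat.of R)) := ⟨g⟩
  haveI : Module.Finite R (Coh.HH X (Coh.structureModule X) n) :=
    (CohFound.finite_HH_iff _ n).2 (VanFib13.hFin_top g n hd _
      (M1.isQCoh_structureModule X) (M1.isCoh_structureModule X).2)
  intro y
  obtain ⟨x, hx⟩ := frob_sub_surjective p hp (Sheaf.H.map (frobAb p h0) n) (fun c x => by
    show Sheaf.H.map (frobAb p h0) n (Coh.toGlobal (X ↘ Spec (CommRingCat.of R)) c • x) =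
      Coh.toGlobal (X ↘ Spec (CommRingCat.of R)) (c ^ p) • Sheaf.H.map (frobAb p h0) n x
    rw [H_map_frobAb_smul, map_pow]) y
  exact ⟨x, (H_map_asAb p h0 n x).trans hx⟩

/-- `H^q(X, ℤ/p) = 0` for `q` above the fibre dimension. -/
theorem FibD.van_const {p : ℕ} [Fact p.Prime] {d : ℕ} (h : FibD R (d + 1) X) (hp : (p : R) = 0) :
    CdP3.Van d (EtCoh.const X (ZMod p)) := by
  have hG := h.good hp
  have key : ∀ m, d + 1 < m → Subsingleton (EtCoh.H X (EtCoh.Ga X) m) := fun m hm => by
    obtain ⟨e, -⟩ := exists_H_Ga_equiv X m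
    haveI := hG.hqc (Coh.structureModule X) (M1.isQCoh_structureModule X) m hm
    exact e.injective.subsingleton
  intro q hq
  obtain ⟨m, rfl⟩ : ∃ m, q = m + 1 := ⟨q - 1, by omega⟩
  refine subsingleton_of_forall_eq 0 fun y => ?_
  obtain ⟨z, rfl⟩ := Ext.covariant_sequence_exact₁ _ (asSeq_shortExact p hG.h0) y
    ((key (m + 1) (by omega)).elim _ _) (n₀ := m) rfl
  rcases Nat.lt_or_ge (d + 1) m with hm | hm
  · rw [(key m hm).elim z 0]
    exact Ext.zero_comp _ _ _ _ _
  obtain rfl : m = d + 1 := by omega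
  obtain ⟨e, he⟩ := exists_H_Ga_equiv X (d + 1)
  obtain ⟨w, hw⟩ := h.asAb_surjective hp (e z)
  have hz : z = Sheaf.H.map (W4c5etcohweilstudent.artinSchreierEndo X p Fact.out hG.h0) (d + 1) (e.symm w) :=
    e.injective (by rw [he _ _ (resZar_artinSchreier p hG.h0), e.apply_symm_apply, hw])
  rw [hz]
  show ((e.symm w).comp (Ext.mk₀ (asSeq p hG.h0).g) (add_zero (d + 1))).comp
    (asSeq_shortExact p hG.h0).extClass rfl = 0
  rw [Ext.comp_assoc_of_second_deg_zero, (asSeq_shortExact p hG.h0).comp_extClass, Ext.comp_zero]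

end Groth.Agent.FibVan3
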