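import Groth.Agent.Lib.CdP3.Induct
import Groth.Agent.Lib.Constr24.IndConstr
import Groth.Agent.Lib.EtColim.Site
import Groth.Agent.S8561
import Groth.Prelude.Def_Dix

/-!
# Dévissage for constructible sheaves on quasi-compact quasi-separated schemes
-/

universe u

set_option autoImplicit false
set_option linter.style.haveILetI false
set_option backward.isDefEq.respectTransparency.types false
set_option maxHeartbeats 1600000

open CategoryTheory CategoryTheory.Limits AlgebraicGeometry Opposite
open Groth.Agent.EtStalk Groth.Agent.LocConst24 Groth.Agent.Constr24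

namespace Groth.Agent.FibVan3

variable {X : Scheme.{u}} {p d : ℕ} {C : Scheme.{u} → Prop}

theorem quasiCompact_ι [QuasiSeparatedSpace X] (U : X.Opens) (hU : IsCompact (U : Set X)) :
    QuasiCompact U.ι := by
  haveI : CompactSpace U.toScheme := isCompact_iff_compactSpace.mp hU
  haveI : QuasiCompact (U.ι ≫ terminal.from X) := (compactSpace_iff_quasiCompact _).1 inferInstance |> fun h => by
    convert h using 1
    exact terminal.hom_ext _ _
  haveI : QuasiSeparated (terminal.from X) := (quasiSeparatedSpace_iff_quasiSeparated _).1 inferInstance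
  exact QuasiCompact.of_comp U.ι (terminal.from X)

/-- Vanishing for constructible sheaves killed by `p`. -/
theorem van_constructible_of_nsmul [Fact p.Prime] [CompactSpace X] [QuasiSeparatedSpace X]
    (hC : CdP3.Cls p d C) (hX : C X) (F : EtCoh.Ab X) (hF : EtPBC.IsConstructible F) (hp : p • 𝟙 F = 0) :
    CdP3.Van d F := by
  classical
  obtain ⟨ι, _, O, hOc, hO⟩ := exists_open_atoms F hF
  let B : Finset ι → X.Opens := fun S => ⟨⋂ i ∈ S, (O i : Set X),
    isOpen_biInter_finset fun i _ => (O i).2⟩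
  let U : Finset (Finset ι) → X.Opens := fun 𝒮 => ⨆ S ∈ 𝒮, B S
  have memU : ∀ (𝒮 : Finset (Finset ι)) (x : X), x ∈ U 𝒮 ↔ ∃ S ∈ 𝒮, ∀ i ∈ S, x ∈ O i := by
    intro 𝒮 x
    simp only [U, TopologicalSpace.Opens.mem_iSup, exists_prop]
    exact exists_congr fun S => and_congr_right fun _ => Set.mem_iInter₂
  have hBc : ∀ S : Finset ι, IsCompact (B S : Set X) := by
    intro S
    induction S using Finset.induction with
    | empty => exact (by simp [B] : (B ∅ : Set X) = Set.univ) ▸ isCompact_univ
    | insert i S hi ih =>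
      have : (B (insert i S) : Set X) = (O i : Set X) ∩ (B S : Set X) := by
        simp [B, Finset.set_biInter_insert]
      rw [this]
      exact QuasiSeparatedSpace.inter_isCompact _ _ (O i).2 (hOc i) (B S).2 ih
  have hUc : ∀ 𝒮, IsCompact (U 𝒮 : Set X) := fun 𝒮 => by
    have : (U 𝒮 : Set X) = ⋃ S ∈ 𝒮, (B S : Set X) := by
      ext x
      simp only [SetLike.mem_coe, memU, Set.mem_iUnion, exists_prop]
      exact exists_congr fun S => and_congr_right fun _ => Set.mem_iInter₂.symm
    rw [this]
    exact 𝒮.finite_toSet.isCompact_biUnion fun S _ => hBc S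
  suffices key : ∀ (m : ℕ) (𝒮 : Finset (Finset ι)), 𝒮.card = m →
      (∀ S ∈ 𝒮, ∀ S', S ⊆ S' → S' ∈ 𝒮) → ∀ (V : Scheme.{u}) (l : V ⟶ X) [IsOpenImmersion l],
        Set.range l = (U 𝒮 : Set X) →
          CdP3.Van d ((EtShriek.extZero l).obj ((EtShriek.restrAlong l).obj F)) by
    haveI : IsIso ((EtShriek.extZeroAdj (U Finset.univ).ι).counit.app F) := by
      refine EtStalk.isIso_extZero_counit _ F fun Ω _ _ ξ h => absurd ?_ h
      rw [(U Finset.univ).range_ι]
      exact (memU _ _).2 ⟨∅, Finset.mem_univ _, fun i hi => absurd hi (Finset.notMem_empty i)⟩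
    exact (key _ Finset.univ rfl (fun _ _ _ _ => Finset.mem_univ _) _ (U Finset.univ).ι
      (U Finset.univ).range_ι).of_iso (asIso ((EtShriek.extZeroAdj (U Finset.univ).ι).counit.app F))
  intro m
  induction m with
  | zero =>
    intro 𝒮 hm _ V l _ hl
    refine CdP3.Van.of_isZero ?_
    rw [IsZero.iff_id_eq_zero]
    refine Constr24.eq_zero_of_stalk_alg _ fun Ω _ _ ξ => ?_
    haveI := AddCommGrpCat.subsingleton_of_isZero
      (EtStalk.stalk_extZero_isZero l ((EtShriek.restrAlong l).obj F) ξ (by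
        rw [hl]
        intro h
        obtain ⟨S, hS, -⟩ := (memU 𝒮 _).1 h
        rw [Finset.card_eq_zero.1 hm] at hS
        exact absurd hS (Finset.notMem_empty S)))
    intros; exact Subsingleton.elim _ _
  | succ m ih =>
    intro 𝒯 hm hup V' l' _ hl'
    obtain ⟨S, hS, hmin⟩ := 𝒯.exists_minimalFor Finset.card (Finset.card_pos.1 (by omega))
    let 𝒮 := 𝒯.erase S
    have hsup : ∀ S', S ⊆ S' → S' ≠ S → S' ∈ 𝒮 := fun S' h hne =>
      Finset.mem_erase.2 ⟨hne, hup S hS S' h⟩
    have hup' : ∀ T ∈ 𝒮, ∀ T', T ⊆ T' → T' ∈ 𝒮 := fun T hT T' h => by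
      rw [Finset.mem_erase] at hT ⊢
      refine ⟨fun e => hT.1 ?_, hup T hT.2 T' h⟩
      subst e
      exact (h.eq_or_ssubset).elim id fun h' => absurd (hmin (j := T) hT.2 (Finset.card_lt_card h').le)
        (not_le.2 (Finset.card_lt_card h'))
    have hSS : S ∉ 𝒮 := Finset.notMem_erase S 𝒯
    let l := (U 𝒮).ι
    have hl : Set.range l = (U 𝒮 : Set X) := (U 𝒮).range_ι
    have hA := ih 𝒮 (by rw [Finset.card_erase_of_mem hS]; omega) hup' _ l hl
    haveI : QuasiCompact l' := by
      have hc : IsCompact (Set.range l') := hl' ▸ hUc 𝒯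
      haveI : CompactSpace V' := ⟨l'.isOpenEmbedding.isInducing.isCompact_iff.2 (by rwa [Set.image_univ])⟩
      haveI : QuasiCompact (l' ≫ terminal.from X) := (compactSpace_iff_quasiCompact _).1 inferInstance |> fun h => by
        convert h using 1
        exact terminal.hom_ext _ _
      haveI : QuasiSeparated (terminal.from X) := (quasiSeparatedSpace_iff_quasiSeparated _).1 inferInstance
      exact QuasiCompact.of_comp l' (terminal.from X)
    haveI : EtShriek.JCont l' := inferInstance
    have hTS : ∀ T ∈ 𝒮, T ∈ 𝒯 := fun T hT => Finset.mem_of_mem_erase hT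
    have hle : Set.range l ⊆ Set.range l' := by
      rw [hl, hl']
      intro x hx
      obtain ⟨T, hT, hx⟩ := (memU 𝒮 x).1 hx
      exact (memU _ x).2 ⟨T, hTS T hT, hx⟩
    let k : (U 𝒮).toScheme ⟶ V' := IsOpenImmersion.lift l' l hle
    have hk : k ≫ l' = l := IsOpenImmersion.lift_fac _ _ _
    haveI : IsOpenImmersion (k ≫ l') := by rw [hk]; infer_instance
    haveI : IsOpenImmersion k := IsOpenImmersion.of_comp k l'
    let Z : TopologicalSpace.Closeds V' :=
      ⟨(Set.range k)ᶜ, k.isOpenEmbedding.isOpen_range.isClosed_compl⟩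
    let c := (Scheme.IdealSheafData.vanishingIdeal Z).subschemeι
    haveI : IsClosedImmersion c := inferInstanceAs (IsClosedImmersion (Scheme.IdealSheafData.subschemeι _))
    have hc : Set.range c = (Set.range k)ᶜ := by
      rw [Scheme.IdealSheafData.range_subschemeι, Scheme.IdealSheafData.coe_support_vanishingIdeal]
      rfl
    haveI : IsReduced (Scheme.IdealSheafData.vanishingIdeal Z).subscheme :=
      Groth.Agent.RedSepLib.isReduced_vanishingIdeal_subscheme Z
    have hrange : ∀ z, l' (c z) ∈ atom (fun i => (O i : Set X)) (S : Set ι) := fun z => by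
      have hnot : l' (c z) ∉ U 𝒮 := fun h => by
        obtain ⟨v, hv⟩ := hl.ge h
        refine (hc.le ⟨z, rfl⟩) ⟨v, l'.isOpenEmbedding.injective ?_⟩
        rw [← Scheme.Hom.comp_apply, hk, hv]
      obtain ⟨T, hT, hzT⟩ := (memU _ _).1 (hl'.le ⟨c z, rfl⟩)
      obtain rfl : T = S := by
        by_contra hne
        exact hnot ((memU _ _).2 ⟨T, Finset.mem_erase.2 ⟨hne, hT⟩, hzT⟩)
      intro i
      refine ⟨fun hi => ?_, fun hi => hzT i hi⟩
      by_contra hiS
      refine hnot ((memU _ _).2 ⟨insert i T, hsup _ (Finset.subset_insert i T)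
        (fun h => hiS (h ▸ Finset.mem_insert_self i T)), fun i' hi' => ?_⟩)
      rcases Finset.mem_insert.1 hi' with rfl | hi'
      · exact hi
      · exact hzT i' hi'
    let F' := (EtShriek.restrAlong l').obj F
    have hflc : EtCoh.IsFiniteLocallyConstant ((EtCoh.pull c).obj F') := by
      refine flc_iso ((EtCoh.pull c).mapIso ((restrPullIso l').app F).symm)
        (flc_iso (F := (EtCoh.pull (c ≫ l')).obj F) ((EtCore.pullComp c l').app F)
          (flc_of_loc (loc_descend fun z => ?_)))
      obtain ⟨T, g, hg, hsub, hgl⟩ := hO (S : Set ι) ⟨_, hrange z⟩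
      haveI := hg
      exact ⟨_, (⊤ : Scheme.Opens _).ι, inferInstance, ⟨z, trivial⟩, rfl,
        loc_of_flc (flc_open_of_range_subset (c ≫ l') g ⊤
          (fun z' _ => hsub (by rw [Scheme.Hom.comp_apply]; exact hrange z')) hgl)⟩
    have hpc : p • 𝟙 ((EtCoh.pull c).obj F') = 0 := by
      haveI : (EtCoh.pull c).Additive := (EtCoh.pullPushAdj c).left_adjoint_additive
      haveI : (EtShriek.restrAlong l').Additive := (EtShriek.extZeroAdj l').right_adjoint_additive
      exact CdP3.nsmul_id_map (EtCoh.pull c) (CdP3.nsmul_id_map (EtShriek.restrAlong l') hp)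
    obtain ⟨w, hw⟩ := shortExact_extZero_pull' c k (by rw [hc, compl_compl]) F'
    haveI := preservesFiniteLimits_extZero l'
    haveI := (EtShriek.extZeroAdj l').leftAdjoint_preservesColimits
    haveI := extZero_additive l'
    refine (CdP3.Van.middle (hw.map_of_exact (EtShriek.extZero l')) ?_ ?_ :)
    · exact hA.of_iso (Constr24.extZeroCompObj k l' l hk F).symm
    · exact CdP3.van_of_finite hC hX l' c _ fun X' hX' j' _ _ _ => CdP3.van_flc hC hX' j' _ hflc hpc

/-- Vanishing for constructible sheaves killed by a power of `p`. -/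
theorem van_constructible_of_pow [Fact p.Prime] [CompactSpace X] [QuasiSeparatedSpace X]
    (hC : CdP3.Cls p d C) (hX : C X) (k : ℕ) : ∀ (F : EtCoh.Ab X), EtPBC.IsConstructible F →
      p ^ k • 𝟙 F = 0 → CdP3.Van d F := by
  induction k with
  | zero =>
    intro F _ hp
    rw [pow_zero, one_smul] at hp
    exact CdP3.Van.of_isZero ((IsZero.iff_id_eq_zero F).2 hp)
  | succ k ih =>
    intro F hF hp
    let q := cokernel.π (p • 𝟙 F)
    let K := ShortComplex.mk (kernel.ι q) q (kernel.condition q)
    have hK : K.ShortExact := { exact := ShortComplex.exact_of_f_is_kernel _ (kernelIsKernel q) }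
    have hQ : EtPBC.IsConstructible (cokernel (p • 𝟙 F)) := constructible_cokernel _ hF hF
    refine CdP3.Van.middle hK (ih _ (constructible_kernel q hF hQ) ?_)
      (van_constructible_of_nsmul hC hX _ hQ ?_)
    · let φ : F ⟶ kernel q := kernel.lift q (p • 𝟙 F) (cokernel.condition _)
      haveI : Epi φ := inferInstanceAs (Epi (Abelian.factorThruImage (p • 𝟙 F)))
      rw [← cancel_epi φ, comp_zero, Preadditive.comp_nsmul, Category.comp_id,
        ← cancel_mono (kernel.ι q), zero_comp, Preadditive.nsmul_comp, kernel.lift_ι, ← mul_nsmul', ← pow_succ]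
      exact hp
    · rw [← cancel_epi (cokernel.π (p • 𝟙 F)), comp_zero, Preadditive.comp_nsmul, Category.comp_id,
        ← Category.id_comp (cokernel.π (p • 𝟙 F)), ← Preadditive.nsmul_comp, cokernel.condition]

theorem nsmul_extZeroConst_hom_eq_zero {V : X.Etale} {m N : ℕ} {G : EtCoh.Ab X}
    (hG : ∀ t : G.obj.obj (op V), ∃ a : ℕ, p ^ a • t = 0) (f : EtPBC.extZeroConst V (ZMod m) ⟶ G) :
    ∃ a : ℕ, p ^ (a + N) • f = 0 := by
  let adj := (constantSheafAdj (X.smallEtaleTopology.over V) AddCommGrpCat.{u + 1}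
    (T := Over.mk (𝟙 V)) Over.mkIdTerminal).comp (EtPBC.extZeroAdj V)
  let A := AddCommGrpCat.of (ULift.{u + 1} (ZMod m))
  let gen : A := ULift.up 1
  obtain ⟨a, ha⟩ := hG (f.hom.app (op V) (adj.unit.app A gen))
  refine ⟨a, (adj.homEquiv A G).injective ?_⟩
  rw [Adjunction.homEquiv_unit, Adjunction.homEquiv_unit]
  refine AddCommGrpCat.ext fun x => ?_
  obtain ⟨i, rfl⟩ : ∃ i : ℤ, x = i • gen := ⟨ZMod.cast x.down, ULift.ext _ _ (by
    show x.down = (ZMod.cast x.down : ℤ) • (1 : ZMod m)
    rw [zsmul_eq_mul, mul_one, ZMod.intCast_zmod_cast])⟩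
  rw [map_zsmul, map_zsmul]
  refine congrArg (i • ·) ?_
  let φ : (EtPBC.extZeroConst V (ZMod m) ⟶ G) →+ G.obj.obj (op V) :=
    AddMonoidHom.mk' (fun g => g.hom.app (op V) (adj.unit.app A gen)) fun _ _ => rfl
  show φ (p ^ (a + N) • f) = φ 0
  rw [map_nsmul, map_zero, pow_add, mul_comm, mul_smul]
  exact (congrArg (p ^ N • ·) ha).trans (smul_zero _)

/-- Sections of a primary torsion sheaf over a quasi-compact object are killed by a power of `p`. -/
theorem exists_pow_smul_eq_zero {F : EtCoh.Ab X} (hF : Dix.IsPrimaryTorsion p F) (U : X.Etale)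
    [CompactSpace U.left] (s : EtCoh.sect F U) : ∃ k : ℕ, p ^ k • s = 0 := by
  classical
  choose V g hv k hk using hF U s
  choose v hv using hv
  haveI : ∀ x, AlgebraicGeometry.Etale (g x).left := fun x => by
    haveI : AlgebraicGeometry.Etale (V x).hom := (V x).prop
    haveI : AlgebraicGeometry.Etale U.hom := U.prop
    haveI : AlgebraicGeometry.Etale ((g x).left ≫ U.hom) := by rw [Over.w]; infer_instance
    exact AlgebraicGeometry.Etale.of_comp (g x).left U.hom
  obtain ⟨t, ht⟩ := isCompact_univ.elim_finite_subcover (fun x : U.left => Set.range (g x).left)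
    (fun x => (g x).left.isOpenMap.isOpen_range) fun x _ => Set.mem_iUnion.2 ⟨x, v x, hv x⟩
  refine ⟨t.sup k, ?_⟩
  let R : Sieve U :=
    { arrows := fun W h => F.obj.map h.op (p ^ t.sup k • s) = 0
      downward_closed := fun {W W' h} hh h' => by
        rw [op_comp, F.obj.map_comp, ConcreteCategory.comp_apply, hh, map_zero] }
  have hR : R ∈ Scheme.smallEtaleTopology X U := by
    rw [EtSite.mem_et_iff]
    intro y
    obtain ⟨x, hx, w, hw⟩ := Set.mem_iUnion₂.1 (ht (Set.mem_univ y))
    refine ⟨V x, g x, w, ?_, hw⟩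
    show F.obj.map (g x).op (p ^ t.sup k • s) = 0
    rw [map_nsmul, show t.sup k = (t.sup k - k x) + k x by have := Finset.le_sup (f := k) hx; omega,
      pow_add, mul_nsmul', hk x, smul_zero]
  exact (((isSheaf_iff_isSheaf_of_type _ _).1
    ((Presheaf.isSheaf_iff_isSheaf_forget _ F.obj (forget _)).1 F.property) _ hR).isSeparatedFor.ext
      fun W h hh => (hh : F.obj.map h.op (p ^ t.sup k • s) = 0).trans (map_zero (F.obj.map h.op).hom).symm)

/-- Vanishing for primary torsion sheaves. -/
theorem van_of_primary [Fact p.Prime] [CompactSpace X] [QuasiSeparatedSpace X]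
    (hC : CdP3.Cls p d C) (hX : C X) {F : EtCoh.Ab X}
    (hF : Dix.IsPrimaryTorsion p F) : CdP3.Van d F := by
  have htor : EtCoh.IsTorsion F := fun U s x => by
    obtain ⟨V, g, hv, k, hk⟩ := hF U s x
    exact ⟨V, g, hv, isOfFinAddOrder_iff_nsmul_eq_zero.2 ⟨p ^ k, pow_pos (Fact.out : p.Prime).pos k, hk⟩⟩
  haveI := isFiltered_indCat (F := F)
  obtain ⟨hcol⟩ := nonempty_isColimit_indCocone htor
  intro q hq
  refine subsingleton_of_forall_eq 0 fun x => ?_
  let e : colimit (indDiag F) ≅ F := (colimit.isColimit _).coconePointUniqueUpToIso hcol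
  obtain ⟨i, y, hy⟩ := (EtColim.surj_inj X q (indDiag F)).1 (Sheaf.H.map e.inv q x)
  let f : (indDiag F).obj i ⟶ F := colimit.ι (indDiag F) i ≫ e.hom
  have hx : x = Sheaf.H.map f q y := by
    rw [show f = colimit.ι (indDiag F) i ≫ e.hom from rfl, Sheaf.H.map_comp_apply]
    refine Eq.trans ?_ (congrArg (Sheaf.H.map e.hom q) hy).symm
    rw [← Sheaf.H.map_comp_apply, e.inv_hom_id, Sheaf.H.map_id_apply]
  let f' : cokernel i.φ ⟶ F := f
  choose a ha using fun j => nsmul_extZeroConst_hom_eq_zero (p := p) (N := 0)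
    (fun t => haveI := (i.hU j).2; exists_pow_smul_eq_zero hF (i.U j) t)
    (biproduct.ι (fun j => EtPBC.extZeroConst (i.U j) (ZMod (i.n j))) j ≫ cokernel.π i.φ ≫ f')
  let N := Finset.univ.sup a
  have hf : p ^ N • f = 0 := by
    show p ^ N • f' = 0
    refine (cancel_epi (cokernel.π i.φ)).1 (biproduct.hom_ext' _ _ fun j => ?_)
    rw [comp_zero, comp_zero, Preadditive.comp_nsmul, Preadditive.comp_nsmul]
    have h := ha j
    rw [add_zero] at h
    rw [show N = (N - a j) + a j by have := Finset.le_sup (f := a) (Finset.mem_univ j); omega, pow_add,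
      mul_nsmul', h, smul_zero]
  have hcok : (p ^ N • 𝟙 ((indDiag F).obj i)) ≫ f = 0 := by
    rw [Preadditive.nsmul_comp, Category.id_comp, hf]
  have hQ := constructible_cokernel (p ^ N • 𝟙 ((indDiag F).obj i)) (isConstructible_indDiag i)
    (isConstructible_indDiag i)
  have hI := van_constructible_of_pow hC hX N _ hQ (by
    rw [← cancel_epi (cokernel.π (p ^ N • 𝟙 ((indDiag F).obj i))), comp_zero, Preadditive.comp_nsmul,
      Category.comp_id, ← Category.id_comp (cokernel.π (p ^ N • 𝟙 ((indDiag F).obj i))),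
      ← Preadditive.nsmul_comp, cokernel.condition])
  rw [hx, ← cokernel.π_desc _ f hcok, Sheaf.H.map_comp_apply, (hI q hq).elim (Sheaf.H.map _ q y) 0,
    map_zero]

end Groth.Agent.FibVan3
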