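import Groth.Agent.Lib.FibVan3.Class
import Groth.Agent.Lib.FibVan3.Constr
import Groth.Agent.S19222
import Mathlib.AlgebraicGeometry.ZariskisMainTheorem

/-!
# Vanishing above the fibre dimension over a strictly henselian base
-/

universe u

set_option autoImplicit false
set_option linter.style.haveILetI false
set_option backward.isDefEq.respectTransparency.types false

open CategoryTheory CategoryTheory.Limits AlgebraicGeometry Opposite

namespace Groth.Agent.FibVan3

variable {R : Type u} [CommRing R] [HenselianLocalRing R] [IsSepClosed (IsLocalRing.ResidueField R)]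
  {p : ℕ} [Fact p.Prime]

theorem cls_fibD (hp : (p : R) = 0) (d : ℕ) : CdP3.Cls.{u} p d (FibD R (d + 1)) where
  compact h := h.compact
  van_const h := h.van_const hp
  of_integral {X P} h π hπ hft := by
    haveI := hπ
    haveI := hft h.qs
    haveI : IsFinite π := (IsFinite.iff_isIntegralHom_and_locallyOfFiniteType π).2 ⟨hπ, inferInstance⟩
    exact h.of_finite π
  extend {X U W} h j hj hjc c hc := by
    haveI := h.compact
    haveI := h.qs
    haveI := hj
    haveI := hjc
    haveI := hc
    obtain ⟨X', π, hπ, j', hj', hjc', hpb⟩ := exists_finite_extension j c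
    haveI := hπ
    exact ⟨X', π, inferInstance, j', hj', hjc', hpb, h.of_finite π⟩

/-- On a proper scheme with fibres of dimension at most `n` over a strictly henselian ring of
characteristic `p`, the cohomology of `p`-power torsion sheaves vanishes above degree `n`. -/
theorem subsingleton_H_of_fibreDim (hp : (p : R) = 0) {X : Scheme.{u}} (g : X ⟶ Spec (CommRingCat.of R))
    [IsProper g] (n : ℕ) (hd : ∀ y, topologicalKrullDim ↥(g ⁻¹' {y} : Set X) ≤ (n : WithBot ℕ∞))
    (F : EtCoh.Ab X) (hF : Dix.IsPrimaryTorsion p F)
    (q : ℕ) (hq : n < q) : Subsingleton (EtCoh.H X F q) := by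
  haveI : CompactSpace X := QuasiCompact.compactSpace_of_compactSpace g
  haveI : QuasiSeparatedSpace X := quasiSeparatedSpace_of_quasiSeparated g
  cases n with
  | zero =>
    haveI : LocallyQuasiFinite g := LocallyQuasiFinite.of_finite_preimage_singleton g fun y => by
      haveI : LocallyOfFiniteType (g.fiberToSpecResidueField y) :=
        MorphismProperty.pullback_snd g _ inferInstance
      haveI : IsLocallyNoetherian (g.fiber y) :=
        LocallyOfFiniteType.isLocallyNoetherian (g.fiberToSpecResidueField y)
      haveI : IsLocallyArtinian (g.fiber y) := IsLocallyArtinian.of_topologicalKrullDim_le_zero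
        ((VanFib13.dim_fiber g y).trans_le (by simpa using hd y))
      haveI : QuasiCompact (g.fiberToSpecResidueField y) := inferInstance
      haveI : CompactSpace (g.fiber y) :=
        QuasiCompact.compactSpace_of_compactSpace (g.fiberToSpecResidueField y)
      haveI : Finite (g.fiber y) := finite_of_compact_of_discrete
      exact Finite.of_equiv _ (g.fiberHomeo y).toEquiv
    haveI : IsFinite g := IsFinite.of_isProper_of_locallyQuasiFinite g
    exact Groth.Agent.S19222.result R X g F q hq
  | succ d =>
    exact van_of_primary (cls_fibD hp d) ⟨g, inferInstance, hd⟩ hF q hq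

end Groth.Agent.FibVan3
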