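import Groth.Agent.S17972
import Groth.Agent.Lib.GaCoh3.FrobSep

/-!
# Artin–Schreier maps on finite modules over strictly henselian rings of characteristic `p`
-/

universe u

set_option autoImplicit false
set_option linter.style.haveILetI false

open MvPolynomial

namespace Groth.Agent.FibVan3

variable {R : Type u} [CommRing R] [HenselianLocalRing R] [IsSepClosed (IsLocalRing.ResidueField R)]
  (p : ℕ) [Fact p.Prime] (hp : (p : R) = 0)

include hp in
/-- The equations `∑ xᵢᵖ Cᵢⱼ - xⱼ = bⱼ` can be solved over a strictly henselian ring of characteristic `p`. -/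
theorem exists_solution {m : ℕ} (C : Matrix (Fin m) (Fin m) R) (b : Fin m → R) :
    ∃ x : Fin m → R, ∀ j, (∑ i, x i ^ p * C i j) - x j = b j := by
  let κ := IsLocalRing.ResidueField R
  let res := IsLocalRing.residue R
  haveI : CharP κ p := (CharP.charP_iff_prime_eq_zero Fact.out).2 (by rw [← map_natCast res, hp, map_zero])
  let F : (Fin m → κ) →+ (Fin m → κ) :=
    AddMonoidHom.mk' (fun v j => ∑ i, v i ^ p * res (C i j)) fun v w => funext fun j => by
      rw [Pi.add_apply, ← Finset.sum_add_distrib]
      exact Finset.sum_congr rfl fun i _ => by rw [Pi.add_apply, add_pow_char, add_mul]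
  have hF : ∀ (c : κ) v, F (c • v) = c ^ p • F v := fun c v => funext fun j => by
    show ∑ i, (c • v) i ^ p * res (C i j) = c ^ p * ∑ i, v i ^ p * res (C i j)
    rw [Finset.mul_sum]
    exact Finset.sum_congr rfl fun i _ => by rw [Pi.smul_apply, smul_eq_mul, mul_pow, mul_assoc]
  obtain ⟨v, hv⟩ := GaCoh3.frob_sub_surjective p F hF (fun j => res (b j))
  choose a₀ ha₀ using fun i => IsLocalRing.residue_surjective (v i)
  let P : Fin m → MvPolynomial (Fin m) R := fun j =>
    (∑ i, MvPolynomial.C (C i j) * X i ^ p) - X j - MvPolynomial.C (b j)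
  have heval : ∀ (x : Fin m → R) j, eval x (P j) = (∑ i, x i ^ p * C i j) - x j - b j := fun x j => by
    simp [P, mul_comm]
  have hd : ∀ i j, pderiv j (P i) = -(if i = j then 1 else 0) := fun i j => by
    have hpc : (p : MvPolynomial (Fin m) R) = 0 := by
      rw [← map_natCast (MvPolynomial.C (σ := Fin m) (R := R)), hp, map_zero]
    simp [P, pderiv_pow, hpc, pderiv_X, Pi.single_apply, eq_comm]
  obtain ⟨a, ha, -⟩ := Groth.Agent.S17972.result R m P a₀ (fun j => by
      rw [← IsLocalRing.residue_eq_zero_iff, heval]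
      simp only [map_sub, map_sum, map_mul, map_pow, ha₀]
      exact sub_eq_zero.2 (congrFun hv j)) (by
      have : Matrix.of (fun i j => eval a₀ (pderiv j (P i))) = -1 := by
        ext i j
        rw [Matrix.of_apply, hd, Matrix.neg_apply, Matrix.one_apply, map_neg]
        split_ifs <;> simp
      rw [this, Matrix.det_neg, Matrix.det_one, mul_one]
      exact IsUnit.pow _ isUnit_one.neg)
  exact ⟨a, fun j => sub_eq_zero.1 ((heval a j).symm.trans (ha j))⟩

include hp in
/-- `F - 1` is onto on finite modules for `p`-semilinear `F`. -/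
theorem frob_sub_surjective {M : Type u} [AddCommGroup M] [Module R M] [Module.Finite R M] (F : M →+ M)
    (hF : ∀ (r : R) (v : M), F (r • v) = r ^ p • F v) : Function.Surjective fun v => F v - v := by
  obtain ⟨m, π, hπ⟩ := Module.Finite.exists_fin' R M
  let e : Fin m → M := fun i => π (Pi.single i 1)
  have hπe : ∀ x : Fin m → R, π x = ∑ i, x i • e i := fun x => by
    conv_lhs => rw [pi_eq_sum_univ' x]
    simp [e, map_sum, map_smul]
  choose c hc using fun i => hπ (F (e i))
  intro y
  obtain ⟨b, rfl⟩ := hπ y
  obtain ⟨x, hx⟩ := exists_solution p hp (Matrix.of c) b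
  refine ⟨π x, ?_⟩
  have h1 : F (π x) = π (fun j => ∑ i, x i ^ p * c i j) := by
    rw [hπe x, map_sum]
    simp only [hF, ← hc, ← map_smul, ← map_sum]
    congr 1
    ext j
    simp
  show F (π x) - π x = π b
  rw [h1, ← map_sub]
  congr 1
  exact funext fun j => hx j

end Groth.Agent.FibVan3
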